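import Groth.Prelude.Def_LieS

/-!
# Centralizers and the adjoint action on the Lie algebra of a group scheme
-/

set_option autoImplicit false

universe u

open CategoryTheory MonoidalCategory CartesianMonoidalCategory MonObj GrpObj AlgebraicGeometry Opposite LieS

noncomputable section

namespace Groth.Agent.LieCentLib

variable {S : Scheme.{u}} {G : Over S} [GrpObj G]

theorem precomp_mul {X Y : Over S} (q : X ⟶ Y) (a b : Y ⟶ G) : q ≫ (a * b) = (q ≫ a) * (q ≫ b) :=
  ((yonedaGrpObj G).map q.op).hom.map_mul a b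

/-- Two points agree once they agree on every affine test scheme over the source. -/
theorem ext_affine {X' : Over S} {a b : X' ⟶ G}
    (h : ∀ (B' : Type u) [CommRing B'] (g : Spec (CommRingCat.of B') ⟶ S) (q : pt B' g ⟶ X'), q ≫ a = q ≫ b) :
    a = b := by
  apply Over.OverMorphism.ext
  refine Scheme.Cover.hom_ext (X'.left.affineOpenCover.openCover) _ _ fun j => ?_
  have e := h (X'.left.affineOpenCover.X j : Type u) (X'.left.affineOpenCover.f j ≫ X'.hom)
    (Over.homMk (X'.left.affineOpenCover.f j) rfl)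
  exact congrArg CommaMorphism.left e

variable {K : Over S} (i : K ⟶ G) (B : Type u) [CommRing B] (f : Spec (CommRingCat.of B) ⟶ S)

/-- A point over an affine scheme commutes with a Lie element if its adjoint action fixes the pullback. -/
theorem commute_of_ad (x : Lie G B f)
    (hAd : ∀ (B' : Type u) [CommRing B'] (h : B →+* B') (k : pt B' (Spec.map (CommRingCat.ofHom h) ≫ f) ⟶ K),
      Ad G B' (Spec.map (CommRingCat.ofHom h) ≫ f) (k ≫ i) (pull G f h x) = pull G f h x)
    (B' : Type u) [CommRing B'] (g : Spec (CommRingCat.of B') ⟶ S) (y : pt B' g ⟶ dpt B f) (k : pt B' g ⟶ K) :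
    (y ≫ x.1) * (k ≫ i) = (k ≫ i) * (y ≫ x.1) := by
  obtain ⟨φ, hφ⟩ := Spec.map_surjective (R := CommRingCat.of (DualNumber B)) (S := CommRingCat.of B') y.left
  let h₀ : B →+* B' := φ.hom.comp (algebraMap B (DualNumber B))
  have hg : g = Spec.map (CommRingCat.ofHom h₀) ≫ f := by
    have w : y.left ≫ (Spec.map (CommRingCat.ofHom (algebraMap B (DualNumber B))) ≫ f) = g := Over.w y
    rw [← hφ] at w
    refine w.symm.trans ?_
    exact (Category.assoc _ _ _).symm.trans (congrArg (· ≫ f) (Spec.map_comp _ _).symm)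
  subst hg
  let c : B' := φ.hom DualNumber.eps
  have hc : c * c = 0 := by
    rw [← map_mul, DualNumber.eps_mul_eps, map_zero]
  let q : pt B' (Spec.map (CommRingCat.ofHom h₀) ≫ f) ⟶ dpt B' (Spec.map (CommRingCat.ofHom h₀) ≫ f) :=
    Over.homMk (Spec.map (CommRingCat.ofHom (dualHom (RingHom.id B') c hc))) (by
      change Spec.map _ ≫ Spec.map _ ≫ Spec.map _ ≫ f = Spec.map _ ≫ f
      rw [← Category.assoc, specMap_comp, dualHom_comp_algebraMap, ← Category.assoc, specMap_comp, RingHom.id_comp])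
  have hq₁ : q ≫ proj B' (Spec.map (CommRingCat.ofHom h₀) ≫ f) = 𝟙 _ := by
    apply Over.OverMorphism.ext
    change Spec.map _ ≫ Spec.map _ = 𝟙 _
    rw [specMap_comp, dualHom_comp_algebraMap, CommRingCat.ofHom_id]
    erw [Spec.map_id]
  have hq₂ : q ≫ dptMap f h₀ = y := by
    apply Over.OverMorphism.ext
    change Spec.map _ ≫ Spec.map _ = y.left
    rw [specMap_comp, ← hφ]
    congr 1
    ext z <;> simp [bcHom, h₀, c, TrivSqZeroExt.algebraMap_eq_inl']
  have hfix : (proj B' (Spec.map (CommRingCat.ofHom h₀) ≫ f) ≫ k ≫ i) * (dptMap f h₀ ≫ x.1) *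
      (proj B' (Spec.map (CommRingCat.ofHom h₀) ≫ f) ≫ k ≫ i)⁻¹ = dptMap f h₀ ≫ x.1 :=
    congrArg Subtype.val (hAd B' h₀ k)
  rw [mul_inv_eq_iff_eq_mul] at hfix
  have e := congrArg (q ≫ ·) hfix
  simp only [precomp_mul, ← Category.assoc, hq₁, hq₂, Category.id_comp] at e
  exact e.symm

end Groth.Agent.LieCentLib
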